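import Groth.Agent.InjHullLib.Local
import Groth.Agent.GorLib.Socle
import Mathlib.RingTheory.TensorProduct.Quotient

/-!
# Base change of an injective hull along a flat map with Gorenstein closed fibre
-/

set_option autoImplicit false
set_option linter.all false
set_option maxHeartbeats 1000000

universe u

open scoped TensorProduct
open InjHull IsLocalRing
open InjHullLib (exists_extend exists_smul_mem_of_essential mem_torsionBy_iff)

noncomputable section

namespace HullBCLib

variable {A : Type u} [CommRing A] {B : Type u} [CommRing B] [Algebra A B]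
  {E : Type u} [AddCommGroup E] [Module A E]

theorem piRight_lTensor {n m : ℕ} (r : Fin m → Fin n → A) (z : B ⊗[A] (Fin n → E)) (j : Fin m) :
    TensorProduct.piRight A A B (fun _ : Fin m => E)
      ((LinearMap.pi fun j => ∑ i, r j i • (LinearMap.proj i : (Fin n → E) →ₗ[A] E)).lTensor B z) j =
      ∑ i, r j i • TensorProduct.piRight A A B (fun _ : Fin n => E) z i := by
  induction z using TensorProduct.induction_on with
  | zero => simp
  | tmul b w => simp [TensorProduct.tmul_sum, TensorProduct.tmul_smul]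
  | add x y hx hy => simp only [map_add, Pi.add_apply, hx, hy, smul_add, Finset.sum_add_distrib]

theorem piRight_lTensor_smul {n : ℕ} (w : Fin n → A) (x : B ⊗[A] E) (i : Fin n) :
    TensorProduct.piRight A A B (fun _ : Fin n => E)
      ((LinearMap.pi fun i => w i • (LinearMap.id : E →ₗ[A] E)).lTensor B x) i = w i • x := by
  induction x using TensorProduct.induction_on with
  | zero => simp
  | tmul b e => simp [TensorProduct.tmul_smul]
  | add x y hx hy => simp only [map_add, Pi.add_apply, hx, hy, smul_add]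

theorem mem_range_lTensor [Module.Flat A B] {N : Type u} [AddCommGroup N] [Module A N] (f : N →ₗ[A] E)
    {n : ℕ} (w : Fin n → A) (hex : ∀ e : E, (∀ i, w i • e = 0) ↔ e ∈ LinearMap.range f)
    (x : B ⊗[A] E) (hx : ∀ i, w i • x = 0) : x ∈ LinearMap.range (f.lTensor B) := by
  have h : Function.Exact f (LinearMap.pi fun i => w i • (LinearMap.id : E →ₗ[A] E)) := fun e => by
    rw [← LinearMap.coe_range, funext_iff]
    exact hex e
  refine (Module.Flat.lTensor_exact B h x).1 ((TensorProduct.piRight A A B (fun _ : Fin n => E)).injective ?_)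
  rw [map_zero]
  funext i
  rw [piRight_lTensor_smul, hx]
  rfl

/-- A flat module tensor an injective module is injective over a Noetherian ring. -/
theorem injective_tensor [IsNoetherianRing A] [Module.Flat A B] (hE : Module.Injective A E) :
    Module.Injective A (B ⊗[A] E) := by
  refine Module.Baer.injective fun a φ => ?_
  obtain ⟨n, g, hg⟩ := Module.Finite.exists_fin' A a
  obtain ⟨m, r, hr⟩ := Submodule.fg_iff_exists_fin_generating_family.1 (IsNoetherian.noetherian (LinearMap.ker g))
  let t : Fin n → A := fun i => (g (Pi.single i 1) : A)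
  let ρ : E →ₗ[A] Fin n → E := LinearMap.pi fun i => t i • LinearMap.id
  let D : (Fin n → E) →ₗ[A] Fin m → E := LinearMap.pi fun j => ∑ i, r j i • LinearMap.proj i
  have hgc : ∀ c : Fin n → A, g c = ∑ i, c i • g (Pi.single i 1) := fun c => by
    conv_lhs => rw [pi_eq_sum_univ' c]
    rw [map_sum]
    exact Finset.sum_congr rfl fun i _ => map_smul _ _ _
  have hr0 : ∀ j, g (r j) = 0 := fun j => LinearMap.mem_ker.1 (hr.le (Submodule.subset_span ⟨j, rfl⟩))
  have hρD : ∀ j, ∑ i, r j i * t i = 0 := fun j => by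
    have h := congrArg (fun z : a => (z : A)) ((hgc (r j)).symm.trans (hr0 j))
    simpa [AddSubmonoidClass.coe_finset_sum, t] using h
  have hex : Function.Exact ρ D := fun w => by
    refine ⟨fun hw => ?_, fun ⟨e, he⟩ => he ▸ funext fun j => ?_⟩
    · let ψ : (Fin n → A) →ₗ[A] E := Fintype.linearCombination A w
      have hψ : LinearMap.ker g ≤ LinearMap.ker ψ := by
        rw [← hr, Submodule.span_le]
        rintro _ ⟨j, rfl⟩
        have := congr_fun hw j
        simpa [D, ψ, Fintype.linearCombination_apply] using this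
      obtain ⟨h, hh⟩ := exists_extend hE (Submodule.subtype a) (Submodule.injective_subtype a)
        ((Submodule.liftQ (LinearMap.ker g) ψ hψ).comp (g.quotKerEquivOfSurjective hg).symm.toLinearMap)
      refine ⟨h 1, funext fun i => ?_⟩
      show t i • h 1 = w i
      rw [← map_smul, smul_eq_mul, mul_one]
      have h2 := LinearMap.congr_fun hh (g (Pi.single i 1))
      refine h2.trans ?_
      simp [ψ, LinearMap.quotKerEquivOfSurjective_symm_apply, Fintype.linearCombination_apply_single]
    · simp [ρ, D, smul_smul, ← Finset.sum_smul, hρD j]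
  obtain ⟨z, hz⟩ := (TensorProduct.piRight A A B (fun _ : Fin n => E)).surjective fun i => φ (g (Pi.single i 1))
  obtain ⟨y, hy⟩ := (Module.Flat.lTensor_exact B hex z).1 ((TensorProduct.piRight A A B (fun _ : Fin m => E)).injective (by
    rw [map_zero]
    funext j
    rw [piRight_lTensor, hz]
    simp only [← map_smul, ← map_sum]
    rw [← pi_eq_sum_univ' (r j), hr0, map_zero]
    rfl))
  refine ⟨LinearMap.toSpanSingleton A _ y, fun x hx => ?_⟩
  obtain ⟨c, hc⟩ := hg ⟨x, hx⟩
  have hi : ∀ i, φ (g (Pi.single i 1)) = t i • y := fun i => by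
    rw [← piRight_lTensor_smul t y i, hy, hz]
  show x • y = φ ⟨x, hx⟩
  rw [← hc, hgc, map_sum]
  have hx' : x = ∑ i, c i * t i := by
    have := congrArg (fun z : a => (z : A)) (hc.symm.trans (hgc c))
    simpa [AddSubmonoidClass.coe_finset_sum, t] using this
  rw [hx', Finset.sum_smul]
  exact Finset.sum_congr rfl fun i _ => by rw [map_smul, hi, smul_smul]

section Local

variable [IsNoetherianRing B]

/-- Extension from the ideals above `J` gives extension from the ideals above a power of `J`. -/
theorem exists_extend_of_pow_le {H : Type u} [AddCommGroup H] [Module B H] {J : Ideal B}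
    (hJ : ∀ (a : Ideal B), J ≤ a → ∀ g : a →ₗ[B] H, ∃ y : H, ∀ x : a, g x = (x : B) • y) :
    ∀ (k : ℕ) (a : Ideal B), J ^ k ≤ a → ∀ g : a →ₗ[B] H, ∃ y : H, ∀ x : a, g x = (x : B) • y := by
  intro k
  induction k with
  | zero =>
    intro a ha g
    have h1 : (1 : B) ∈ a := ha (by simp)
    refine ⟨g ⟨1, h1⟩, fun x => ?_⟩
    rw [← map_smul]
    congr 1
    exact Subtype.ext (mul_one _).symm
  | succ k ih =>
    intro a
    induction a using (wellFounded_gt (α := Ideal B)).induction with
    | _ a iha =>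
    intro ha g
    by_cases hk : J ^ k ≤ a
    · exact ih a hk g
    obtain ⟨x₀, hx₀, hx₀a⟩ := SetLike.not_le_iff_exists.1 hk
    let c : Ideal B := Submodule.comap (LinearMap.toSpanSingleton B B x₀) a
    have hc : ∀ r ∈ c, r * x₀ ∈ a := fun r hr => hr
    have hJc : J ≤ c := fun r hr => ha (by rw [pow_succ']; exact Ideal.mul_mem_mul hr hx₀)
    let g₀ : c →ₗ[B] H := g.comp
      (((LinearMap.toSpanSingleton B B x₀).comp c.subtype).codRestrict a fun r => r.2)
    obtain ⟨y₀, hy₀⟩ := hJ c hJc g₀
    have hwd : ∀ (u : a) (r : B), (u : B) + r * x₀ = 0 → g u + r • y₀ = 0 := fun u r h => by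
      have hr : r ∈ c := by
        show r * x₀ ∈ a
        rw [eq_neg_of_add_eq_zero_right h]
        exact a.neg_mem u.2
      rw [← hy₀ ⟨r, hr⟩]
      show g u + g _ = 0
      rw [← map_add]
      exact (congrArg g (Subtype.ext h)).trans (map_zero g)
    let a' : Ideal B := a ⊔ Ideal.span {x₀}
    have hdec : ∀ z : a', ∃ (u : a) (r : B), (u : B) + r * x₀ = z := fun z => by
      obtain ⟨u, hu, v, hv, huv⟩ := Submodule.mem_sup.1 z.2
      obtain ⟨r, rfl⟩ := Ideal.mem_span_singleton'.1 hv
      exact ⟨⟨u, hu⟩, r, huv⟩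
    choose U R hUR using hdec
    have key : ∀ (z : a') (u : a) (r : B), (u : B) + r * x₀ = z → g (U z) + R z • y₀ = g u + r • y₀ := fun z u r h => by
      refine sub_eq_zero.1 ((Eq.trans ?_ (hwd (U z - u) (R z - r) ?_)))
      · rw [map_sub, sub_smul]; abel
      · rw [AddSubgroupClass.coe_sub, sub_mul, sub_add_sub_comm, hUR, h, sub_self]
    let g' : a' →ₗ[B] H :=
      { toFun := fun z => g (U z) + R z • y₀
        map_add' := fun z w => by
          rw [key (z + w) (U z + U w) (R z + R w) (by push_cast; rw [add_mul, add_add_add_comm, hUR, hUR])]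
          rw [map_add, add_smul]; abel
        map_smul' := fun b z => by
          rw [RingHom.id_apply, key (b • z) (b • U z) (b * R z) (by
            push_cast; rw [smul_eq_mul, smul_eq_mul, mul_assoc, ← mul_add, hUR])]
          rw [map_smul, smul_add, mul_smul] }
    have hlt : a < a' := lt_of_le_of_ne le_sup_left fun h => hx₀a
      (h ▸ Submodule.mem_sup_right (Ideal.mem_span_singleton_self x₀))
    obtain ⟨y, hy⟩ := iha a' hlt (ha.trans le_sup_left) g'
    refine ⟨y, fun x => ?_⟩
    rw [← hy ⟨x.1, Submodule.mem_sup_left x.2⟩]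
    show g x = g (U _) + R _ • y₀
    rw [key _ x 0 (by rw [zero_mul, add_zero]), zero_smul, add_zero]

theorem main [IsLocalRing A] [IsNoetherianRing A] [IsLocalRing B] [Module.Flat A B]
    (hG : LocCoh.IsGorensteinLocalRing (B ⧸ (maximalIdeal A).map (algebraMap A B)))
    (hArt : IsArtinianRing (B ⧸ (maximalIdeal A).map (algebraMap A B)))
    (f : ResidueField A →ₗ[A] E) (hf : IsInjectiveHull f) :
    ∃ g : ResidueField B →ₗ[B] B ⊗[A] E, IsInjectiveHull g := by
  classical
  let J : Ideal B := (maximalIdeal A).map (algebraMap A B)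
  haveI := hG
  haveI : IsArtinianRing (B ⧸ J) := hArt
  haveI : IsLocalRing (B ⧸ J) := hG.toIsLocalRing
  have hJB : J ≤ maximalIdeal B := IsLocalRing.le_maximalIdeal fun h => by
    haveI := Ideal.Quotient.subsingleton_iff.2 h
    exact not_nontrivial (B ⧸ J) inferInstance
  have hsoc := GorLib.gorenstein_iff_socCyclic.1 hG
  have hF : Module.Injective (B ⧸ J) (B ⧸ J) := GorLib.injective_of_socCyclic hsoc
  obtain ⟨s, hs0, hs, hsgen⟩ := hsoc
  haveI : Module.Injective A (B ⊗[A] E) := injective_tensor hf.isInjective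
  have htors : LocCoh.IsPowerTorsion J (B ⊗[A] E) := fun x => by
    induction x using TensorProduct.induction_on with
    | zero => exact ⟨0, fun b _ => smul_zero b⟩
    | tmul b e =>
      obtain ⟨k, hk⟩ := InjHullLib.isPowerTorsion_hull_local hf e
      refine ⟨k, fun c hc => ?_⟩
      rw [show J ^ k = _ from (Ideal.map_pow (algebraMap A B) _ k).symm] at hc
      induction hc using Submodule.span_induction with
      | mem c hc =>
        obtain ⟨a, ha, rfl⟩ := hc
        rw [algebraMap_smul, ← TensorProduct.tmul_smul, hk a ha, TensorProduct.tmul_zero]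
      | zero => rw [zero_smul]
      | add c d _ _ hc hd => rw [add_smul, hc, hd, add_zero]
      | smul c d _ hd => rw [smul_assoc, hd, smul_zero]
    | add x y hx hy =>
      obtain ⟨k, hk⟩ := hx
      obtain ⟨l, hl⟩ := hy
      exact ⟨max k l, fun c hc => by rw [smul_add, hk c (Ideal.pow_le_pow_right (le_max_left k l) hc),
        hl c (Ideal.pow_le_pow_right (le_max_right k l) hc), add_zero]⟩
  obtain ⟨n, w, hw⟩ := Submodule.fg_iff_exists_fin_generating_family.1 (IsNoetherian.noetherian (maximalIdeal A))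
  have hex : ∀ e : E, (∀ i, w i • e = 0) ↔ e ∈ LinearMap.range f := fun e => by
    rw [← InjHullLib.socle_eq_range hf, mem_torsionBy_iff]
    refine ⟨fun h a ha => ?_, fun h i => h _ (hw.le (Submodule.subset_span ⟨i, rfl⟩))⟩
    rw [← hw] at ha
    induction ha using Submodule.span_induction with
    | mem a ha => obtain ⟨i, rfl⟩ := ha; exact h i
    | zero => rw [zero_smul]
    | add c d _ _ hc hd => rw [add_smul, hc, hd, add_zero]
    | smul c d _ hd => rw [smul_assoc, hd, smul_zero]
  let e₀ : (B ⧸ J) ≃ₐ[B] B ⊗[A] (A ⧸ maximalIdeal A) :=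
    Algebra.TensorProduct.quotIdealMapEquivTensorQuot B (maximalIdeal A)
  let ι : (B ⧸ J) →ₗ[B] B ⊗[A] E :=
    (TensorProduct.AlgebraTensorModule.lTensor B B (f : (A ⧸ maximalIdeal A) →ₗ[A] E)).comp e₀.toLinearMap
  have hι : Function.Injective ι :=
    (Module.Flat.lTensor_preserves_injective_linearMap (f : (A ⧸ maximalIdeal A) →ₗ[A] E) hf.injective).comp e₀.injective
  have hιr : ∀ x : B ⊗[A] E, (∀ b ∈ J, b • x = 0) → x ∈ LinearMap.range ι := fun x hx => by
    obtain ⟨z, hz⟩ := mem_range_lTensor f w hex x fun i => by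
      rw [← algebraMap_smul B (w i) x]
      exact hx _ (Ideal.mem_map_of_mem _ (hw.le (Submodule.subset_span ⟨i, rfl⟩)))
    exact ⟨e₀.symm z, (congrArg _ (e₀.apply_symm_apply z)).trans hz⟩
  have hkill : ∀ (q : B ⧸ J), ∀ b ∈ J, b • ι q = 0 := fun q b hb => by
    obtain ⟨c, rfl⟩ := Ideal.Quotient.mk_surjective q
    rw [← map_smul]
    exact (congrArg ι ((Submodule.Quotient.mk_eq_zero J).2 (Ideal.mul_mem_right c J hb))).trans (map_zero ι)
  have hstep : ∀ (a : Ideal B), J ≤ a → ∀ g : a →ₗ[B] B ⊗[A] E, ∃ y, ∀ x : a, g x = (x : B) • y := fun a ha g => by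
    let g₁ : maximalIdeal A →ₗ[A] B ⊗[A] E :=
      { toFun := fun r => g ⟨algebraMap A B r, ha (Ideal.mem_map_of_mem _ r.2)⟩
        map_add' := fun r r' => by rw [← map_add]; exact congrArg g (Subtype.ext (map_add _ _ _))
        map_smul' := fun c r => by
          rw [RingHom.id_apply, ← algebraMap_smul B c (g _), ← map_smul]
          exact congrArg g (Subtype.ext (map_mul _ _ _)) }
    obtain ⟨h₁, hh₁⟩ := exists_extend (inferInstance : Module.Injective A (B ⊗[A] E)) (Submodule.subtype (maximalIdeal A))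
      (Submodule.injective_subtype _) g₁
    let g₂ : a →ₗ[B] B ⊗[A] E := g - (LinearMap.toSpanSingleton B _ (h₁ 1)).comp a.subtype
    have hg₂ : J ≤ Submodule.map a.subtype (LinearMap.ker g₂) := Ideal.map_le_iff_le_comap.2 fun r hr => by
      refine ⟨⟨algebraMap A B r, ha (Ideal.mem_map_of_mem _ hr)⟩, ?_, rfl⟩
      show g _ - algebraMap A B r • h₁ 1 = 0
      rw [sub_eq_zero, algebraMap_smul, ← map_smul, smul_eq_mul, mul_one]
      exact (LinearMap.congr_fun hh₁ ⟨r, hr⟩).symm
    have hg₂' : ∀ x : a, (x : B) ∈ J → g₂ x = 0 := fun x hx => by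
      obtain ⟨y, hy, hyx⟩ := hg₂ hx
      rw [← (Subtype.ext hyx : y = x)]
      exact hy
    have hmem : ∀ x : a, g₂ x ∈ LinearMap.range ι := fun x => hιr _ fun b hb => by
      rw [← map_smul]
      exact hg₂' _ (Ideal.mul_mem_right _ J hb)
    choose Q hQ using hmem
    have hlift : ∀ z : a.map (Ideal.Quotient.mk J), ∃ x : a, Ideal.Quotient.mk J x = z := fun z => by
      obtain ⟨x, hx, hxz⟩ := (Ideal.mem_map_iff_of_surjective _ Ideal.Quotient.mk_surjective).1 z.2
      exact ⟨⟨x, hx⟩, hxz⟩
    choose L hL using hlift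
    have key : ∀ (z : a.map (Ideal.Quotient.mk J)) (x : a), Ideal.Quotient.mk J x = z → Q (L z) = Q x := fun z x hx => by
      refine hι ?_
      rw [hQ, hQ, ← sub_eq_zero, ← map_sub]
      exact hg₂' _ ((Ideal.Quotient.eq (I := J)).1 ((hL z).trans hx.symm))
    let ψ : (a.map (Ideal.Quotient.mk J)) →ₗ[B ⧸ J] B ⧸ J :=
      { toFun := fun z => Q (L z)
        map_add' := fun z z' => hι (by
          rw [key (z + z') (L z + L z') (by push_cast; rw [map_add, hL, hL]), map_add, hQ, hQ, hQ, map_add])
        map_smul' := fun c z => by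
          obtain ⟨b, rfl⟩ := Ideal.Quotient.mk_surjective c
          rw [RingHom.id_apply, key _ (b • L z) (by push_cast; rw [smul_eq_mul, smul_eq_mul, map_mul, hL])]
          refine hι ?_
          rw [hQ, map_smul, ← hQ (L z), ← map_smul]
          rfl }
    obtain ⟨ψ', hψ'⟩ := exists_extend hF (Submodule.subtype _) (Submodule.injective_subtype _) ψ
    refine ⟨h₁ 1 + ι (ψ' 1), fun x => ?_⟩
    let z : a.map (Ideal.Quotient.mk J) := ⟨Ideal.Quotient.mk J x, Ideal.mem_map_of_mem _ x.2⟩
    have h1 : ψ' z.1 = Q x := (LinearMap.congr_fun hψ' z).trans (key z x rfl)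
    have h2 : Q x = (x : B) • ψ' 1 := by
      rw [← h1, ← mul_one z.1, ← smul_eq_mul, map_smul]
      rfl
    rw [smul_add, ← map_smul ι, ← h2, hQ]
    show g x = (x : B) • h₁ 1 + (g x - (x : B) • h₁ 1)
    abel
  have hinj : Module.Injective B (B ⊗[A] E) := InjHullLib.injective_of_powerTorsion_extend htors fun a g k hk => by
    let a' : Ideal B := a ⊔ J ^ k
    have hdec : ∀ z : a', ∃ u : a, (z : B) - u ∈ J ^ k := fun z => by
      obtain ⟨u, hu, v, hv, huv⟩ := Submodule.mem_sup.1 z.2
      exact ⟨⟨u, hu⟩, by rw [← huv, add_sub_cancel_left]; exact hv⟩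
    choose U hU using hdec
    have key : ∀ (z : a') (u : a), (z : B) - u ∈ J ^ k → g (U z) = g u := fun z u h => by
      rw [← sub_eq_zero, ← map_sub]
      refine hk _ ?_
      rw [AddSubgroupClass.coe_sub, show (U z : B) - u = ((z : B) - u) - (z - U z) by abel]
      exact sub_mem h (hU z)
    let g' : a' →ₗ[B] B ⊗[A] E :=
      { toFun := fun z => g (U z)
        map_add' := fun z w => by
          rw [key (z + w) (U z + U w) (by push_cast; rw [add_sub_add_comm]; exact add_mem (hU z) (hU w)), map_add]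
        map_smul' := fun b z => by
          rw [RingHom.id_apply, key (b • z) (b • U z) (by
            push_cast; rw [← smul_sub]; exact Ideal.mul_mem_left _ b (hU z)), map_smul] }
    obtain ⟨y, hy⟩ := exists_extend_of_pow_le hstep k a' le_sup_right g'
    refine ⟨LinearMap.toSpanSingleton B _ y, fun x => ?_⟩
    show (x : B) • y = g x
    rw [← hy ⟨x.1, Submodule.mem_sup_left x.2⟩]
    exact key _ x (by simp)
  -- the socle
  obtain ⟨c, hc⟩ : ∃ c : ℕ, maximalIdeal B ^ c ≤ J := by
    obtain ⟨c, hc⟩ := IsArtinianRing.isNilpotent_jacobson_bot (R := B ⧸ J)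
    refine ⟨c, ?_⟩
    rw [IsLocalRing.jacobson_eq_maximalIdeal ⊥ bot_ne_top, ← IsLocalRing.map_maximalIdeal_of_surjective _ Ideal.Quotient.mk_surjective,
      ← Ideal.map_pow, Submodule.zero_eq_bot, Ideal.map_eq_bot_iff_le_ker, Ideal.mk_ker] at hc
    exact hc
  have htors' : LocCoh.IsPowerTorsion (maximalIdeal B) (B ⊗[A] E) := fun x => by
    obtain ⟨k, hk⟩ := htors x
    refine ⟨c * k, fun b hb => hk b ?_⟩
    rw [pow_mul] at hb
    exact Ideal.pow_right_mono hc k hb
  let y₀ := ι s
  have hy₀ : (maximalIdeal B : Submodule B B) ≤ LinearMap.ker (LinearMap.toSpanSingleton B (B ⊗[A] E) y₀) := fun b hb => by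
    show b • ι s = 0
    rw [← map_smul]
    have : b • s = 0 := hs (Ideal.Quotient.mk J b) (by
      rw [← IsLocalRing.map_maximalIdeal_of_surjective _ Ideal.Quotient.mk_surjective]
      exact Ideal.mem_map_of_mem _ hb)
    rw [this, map_zero]
  let g : ResidueField B →ₗ[B] B ⊗[A] E := Submodule.liftQ (maximalIdeal B) _ hy₀
  have hginj : Function.Injective g := (injective_iff_map_eq_zero g).2 fun q hq => by
    obtain ⟨b, rfl⟩ := Submodule.Quotient.mk_surjective _ q
    refine (Submodule.Quotient.mk_eq_zero _).2 fun hu => hs0 ?_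
    have hb : b • s = 0 := hι ((map_smul ι b s).trans (hq.trans (map_zero ι).symm))
    exact (IsUnit.smul_eq_zero hu).1 hb
  refine ⟨g, ⟨InjHullLib.isEssentialInj_of_exists_smul hginj fun x hx => ?_, hinj⟩⟩
  obtain ⟨r, ⟨y, hy⟩, hr⟩ := exists_smul_mem_of_essential (InjHullLib.socle_essential htors') hx
  obtain ⟨q, hq⟩ := hιr (y : B ⊗[A] E) fun b hb => mem_torsionBy_iff.1 y.2 b (hJB hb)
  obtain ⟨d, hd⟩ : ∃ d : B, q = d • s := by
    have hqm : q ∈ Ideal.span {s} := hsgen q fun a ha => by
      obtain ⟨b, rfl⟩ := Ideal.Quotient.mk_surjective a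
      refine hι ?_
      rw [show Ideal.Quotient.mk J b * q = b • q from rfl, map_smul, hq, map_zero]
      exact mem_torsionBy_iff.1 y.2 b fun hu => ha (hu.map _)
    obtain ⟨a, ha⟩ := Ideal.mem_span_singleton'.1 hqm
    obtain ⟨d, rfl⟩ := Ideal.Quotient.mk_surjective a
    exact ⟨d, ha.symm⟩
  refine ⟨r, ⟨Submodule.Quotient.mk d, ?_⟩, hr⟩
  show d • ι s = _
  rw [← map_smul, ← hd, hq]
  exact hy

end Local

end HullBCLib
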